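import Cfsg.Agent.Helper59.BrPG.W5
import Cfsg.Agent.Helper5.BrPG.W2
import Cfsg.Agent.Helper62.BrPG.W12

/-!
# Theorem PG of S0996 (helper77): package W7 = (PG4a,b,c): every `w ∈ N \ P` fixes exactly `n + 1`
points of `Syl_p G`  (helper10)
-/

set_option autoImplicit false
set_option linter.unusedSectionVars false

namespace Cfsg.Agent.Helper10.BrPG

open scoped Pointwise
open Cfsg.Agent.Helper77.BrPG

universe u

variable {G : Type u} [Group G] [Finite G] {p : ℕ} [Fact p.Prime]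

theorem W7_card_ne (P : Sylow p G) : Nat.card {Q : Sylow p G // Q ≠ P} = Nat.card (Sylow p G) - 1 := by
  classical
  have := Fintype.ofFinite (Sylow p G)
  rw [Nat.card_eq_fintype_card, Nat.card_eq_fintype_card, Fintype.card_subtype_compl,
    Fintype.card_subtype_eq]

/-- (PG4a) at most `n` fixed points other than `P` -/
theorem IsBr.card_fixed_le {P : Sylow p G} {e n : ℕ} (h : IsBr P e n) (w : G) (hwP : w ∈ Nz P)
    (hwP' : w ∉ (P : Subgroup G)) : Nat.card {Q : Sylow p G // Q ≠ P ∧ w ∈ Nz Q} ≤ n := by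
  classical
  have hp : 0 < p := (Fact.out : p.Prime).pos
  -- the map `(Q, x) ↦ x • Q`
  have hmap : ∀ (Q : {Q : Sylow p G // Q ≠ P ∧ w ∈ Nz Q}) (x : (P : Subgroup G)),
      (x : G) • (Q : Sylow p G) ≠ P := by
    intro Q x hcon
    apply Q.2.1
    have hx : (x : G) • P = P :=
      (Cfsg.Agent.Helper5.BrPG.mem_Nz_iff _ _).mp (Subgroup.le_normalizer x.2)
    have : (x : G) • (Q : Sylow p G) = (x : G) • P := hcon.trans hx.symm
    exact smul_left_cancel _ this
  let f : {Q : Sylow p G // Q ≠ P ∧ w ∈ Nz Q} × (P : Subgroup G) → {Q : Sylow p G // Q ≠ P} :=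
    fun Qx => ⟨(Qx.2 : G) • (Qx.1 : Sylow p G), hmap Qx.1 Qx.2⟩
  have hinj : Function.Injective f := by
    rintro ⟨Q, x⟩ ⟨Q', x'⟩ hff
    have hff' : (x : G) • (Q : Sylow p G) = (x' : G) • (Q' : Sylow p G) :=
      congrArg Subtype.val hff
    have hQ' : (Q' : Sylow p G) = ((x' : G)⁻¹ * (x : G)) • (Q : Sylow p G) := by
      rw [mul_smul, hff', inv_smul_smul]
    by_cases hxx : (x' : G)⁻¹ * (x : G) = 1
    · have hx : x = x' := by
        apply Subtype.ext
        have := inv_mul_eq_one.mp hxx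
        exact this.symm
      have hQQ : Q = Q' := by
        apply Subtype.ext
        rw [hQ', hxx, one_smul]
      rw [hx, hQQ]
    · exfalso
      have hmem : (x' : G)⁻¹ * (x : G) ∈ (P : Subgroup G) :=
        Subgroup.mul_mem _ (Subgroup.inv_mem _ x'.2) x.2
      have := Cfsg.Agent.Helper59.BrPG.IsBr.not_mem_Nz_smul h (Q : Sylow p G) Q.2.1
        ((x' : G)⁻¹ * (x : G)) hmem hxx w hwP hwP' Q.2.2
      rw [← hQ'] at this
      exact this Q'.2.2
  have hle := Nat.card_le_card_of_injective f hinj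
  rw [Nat.card_prod, W7_card_ne, h.cardS, h.cardP, Nat.add_sub_cancel_left] at hle
  exact Nat.le_of_mul_le_mul_right hle hp

theorem W7_card_ne_one (H : Subgroup G) :
    Nat.card {w : G // w ∈ H ∧ w ≠ 1} = Nat.card H - 1 := by
  classical
  have := Fintype.ofFinite H
  have e : {w : G // w ∈ H ∧ w ≠ 1} ≃ {w : H // w ≠ 1} :=
    { toFun := fun w => ⟨⟨w.1, w.2.1⟩, fun hc => w.2.2 (congrArg Subtype.val hc)⟩
      invFun := fun w => ⟨w.1.1, w.1.2, fun hc => w.2 (Subtype.ext hc)⟩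
      left_inv := fun w => rfl
      right_inv := fun w => rfl }
  rw [Nat.card_congr e, Nat.card_eq_fintype_card, Nat.card_eq_fintype_card,
    Fintype.card_subtype_compl, Fintype.card_subtype_eq]

/-- (PG4b) the double count `Σ_{w ∈ N \ P} |Fix'(w)| = Σ_{Q ≠ P} (e - 1) = n p (e - 1)` -/
theorem IsBr.sum_card_fixed {P : Sylow p G} {e n : ℕ} (h : IsBr P e n) :
    ∑ᶠ w ∈ {w : G | w ∈ Nz P ∧ w ∉ (P : Subgroup G)},
      Nat.card {Q : Sylow p G // Q ≠ P ∧ w ∈ Nz Q} = n * p * (e - 1) := by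
  classical
  rw [Cfsg.Agent.Helper62.BrPG.finsum_mem_card_fibre {w : G | w ∈ Nz P ∧ w ∉ (P : Subgroup G)}
    (fun w (Q : Sylow p G) => Q ≠ P ∧ w ∈ Nz Q)]
  have : Fintype {Q : Sylow p G // Q ≠ P} := Fintype.ofFinite _
  have hbot : ∀ Q : Sylow p G, Q ≠ P → ∀ w : G, w ∈ Ez P Q → (w ∉ (P : Subgroup G) ↔ w ≠ 1) := by
    intro Q hQ w hw
    constructor
    · intro hwP h1
      exact hwP (h1 ▸ Subgroup.one_mem _)
    · intro h1 hwP
      have : w ∈ Ez P Q ⊓ (P : Subgroup G) := ⟨hw, hwP⟩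
      rw [Cfsg.Agent.Helper5.BrPG.Ez_inf_eq_bot P h.cardP Q hQ, Subgroup.mem_bot] at this
      exact h1 this
  have key : Nat.card {wQ : G × Sylow p G // wQ.1 ∈ {w : G | w ∈ Nz P ∧ w ∉ (P : Subgroup G)} ∧
        (wQ.2 ≠ P ∧ wQ.1 ∈ Nz wQ.2)} =
      Nat.card (Σ Q : {Q : Sylow p G // Q ≠ P}, {w : G // w ∈ Ez P (Q : Sylow p G) ∧ w ≠ 1}) := by
    refine Nat.card_congr ?_
    exact
      { toFun := fun x => ⟨⟨x.1.2, x.2.2.1⟩, ⟨x.1.1, ⟨x.2.1.1, x.2.2.2⟩,
          (hbot x.1.2 x.2.2.1 x.1.1 ⟨x.2.1.1, x.2.2.2⟩).mp x.2.1.2⟩⟩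
        invFun := fun y => ⟨(y.2.1, y.1.1), ⟨y.2.2.1.1,
          (hbot y.1.1 y.1.2 y.2.1 y.2.2.1).mpr y.2.2.2⟩, y.1.2, y.2.2.1.2⟩
        left_inv := fun x => rfl
        right_inv := fun y => rfl }
  rw [key, Nat.card_sigma]
  have hfib : ∀ Q : {Q : Sylow p G // Q ≠ P},
      Nat.card {w : G // w ∈ Ez P (Q : Sylow p G) ∧ w ≠ 1} = e - 1 := by
    intro Q
    rw [W7_card_ne_one, h.two Q.1 Q.2]
  rw [Finset.sum_congr rfl fun Q _ => hfib Q, Finset.sum_const, Finset.card_univ,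
    ← Nat.card_eq_fintype_card, W7_card_ne, h.cardS, Nat.add_sub_cancel_left, smul_eq_mul]

/-- (PG4c) -/
theorem IsBr.card_fixed {P : Sylow p G} {e n : ℕ} (h : IsBr P e n) (w : G) (hwP : w ∈ Nz P)
    (hwP' : w ∉ (P : Subgroup G)) : Nat.card {Q : Sylow p G // w ∈ Nz Q} = n + 1 := by
  classical
  have hp : 0 < p := (Fact.out : p.Prime).pos
  have hS : {w : G | w ∈ Nz P ∧ w ∉ (P : Subgroup G)}.Finite := Set.toFinite _
  have hsum := IsBr.sum_card_fixed h
  rw [finsum_mem_eq_finite_toFinset_sum _ hS] at hsum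
  have hcardS : hS.toFinset.card = p * (e - 1) := by
    rw [← Set.ncard_eq_toFinset_card _ hS]
    have hset : {w : G | w ∈ Nz P ∧ w ∉ (P : Subgroup G)} =
        ((Nz P : Subgroup G) : Set G) \ ((P : Subgroup G) : Set G) := by
      ext w
      rfl
    have hsub : ((P : Subgroup G) : Set G) ⊆ ((Nz P : Subgroup G) : Set G) :=
      Subgroup.le_normalizer
    rw [hset, Set.ncard_sdiff hsub (Set.toFinite _), ← Nat.card_coe_set_eq,
      ← Nat.card_coe_set_eq]
    have h1 : Nat.card (((Nz P : Subgroup G) : Set G)) = p * e := h.cardN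
    have h2 : Nat.card (((P : Subgroup G) : Set G)) = p := h.cardP
    rw [h1, h2, Nat.mul_sub_one]
  have hle : ∀ w' ∈ hS.toFinset, Nat.card {Q : Sylow p G // Q ≠ P ∧ w' ∈ Nz Q} ≤ n := by
    intro w' hw'
    rw [Set.Finite.mem_toFinset] at hw'
    exact IsBr.card_fixed_le h w' hw'.1 hw'.2
  have hn : Nat.card {Q : Sylow p G // Q ≠ P ∧ w ∈ Nz Q} = n := by
    by_contra hne
    have hlt : Nat.card {Q : Sylow p G // Q ≠ P ∧ w ∈ Nz Q} < n :=
      lt_of_le_of_ne (IsBr.card_fixed_le h w hwP hwP') hne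
    have hmem : w ∈ hS.toFinset := by
      rw [Set.Finite.mem_toFinset]
      exact ⟨hwP, hwP'⟩
    have := Finset.sum_lt_sum hle ⟨w, hmem, hlt⟩
    rw [hsum, Finset.sum_const, hcardS, smul_eq_mul] at this
    apply lt_irrefl (n * p * (e - 1))
    calc n * p * (e - 1) < p * (e - 1) * n := this
      _ = n * p * (e - 1) := by ring
  have := Fintype.ofFinite (Sylow p G)
  rw [Nat.card_eq_fintype_card, Fintype.card_subtype] at hn ⊢
  have hins : (Finset.univ.filter fun Q : Sylow p G => w ∈ Nz Q) =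
      insert P (Finset.univ.filter fun Q : Sylow p G => Q ≠ P ∧ w ∈ Nz Q) := by
    ext Q
    simp only [Finset.mem_filter, Finset.mem_univ, true_and, Finset.mem_insert]
    constructor
    · intro hQ
      by_cases hQP : Q = P
      · exact Or.inl hQP
      · exact Or.inr ⟨hQP, hQ⟩
    · rintro (hQP | hQ)
      · rw [hQP]; exact hwP
      · exact hQ.2
  rw [hins, Finset.card_insert_of_notMem, hn]
  simp

end Cfsg.Agent.Helper10.BrPG
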