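import Cfsg.Agent.Helper59.BrPG.W5
import Cfsg.Agent.Helper5.BrPG.W2

/-!
# Theorem PG of S0996 (helper77): package W8 = (PG5a), (PG5e), (PG5b): `L = N_G(E)`  (helper10)
-/

set_option autoImplicit false
set_option linter.unusedSectionVars false

namespace Cfsg.Agent.Helper10.BrPG

open scoped Pointwise
open Cfsg.Agent.Helper77.BrPG

universe u

variable {G : Type u} [Group G] [Finite G] {p : ℕ} [Fact p.Prime]

theorem W8_Ez_le_normalizer (P Q : Sylow p G) :
    Ez P Q ≤ Subgroup.normalizer ((Ez P Q : Subgroup G) : Set G) ⊓ Nz P :=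
  le_inf Subgroup.le_normalizer inf_le_left

/-- `N_G(E) ∩ N ∩ P = 1` -/
theorem IsBr.W8_inf_eq_bot {P : Sylow p G} {e n : ℕ} (h : IsBr P e n) (Q : Sylow p G)
    (hQ : Q ≠ P) :
    (Subgroup.normalizer ((Ez P Q : Subgroup G) : Set G) ⊓ Nz P) ⊓ (P : Subgroup G) = ⊥ := by
  rw [eq_bot_iff]
  intro x hx
  rw [Subgroup.mem_bot]
  by_contra hx1
  obtain ⟨⟨hxL, -⟩, hxP⟩ := hx
  have hbot := Cfsg.Agent.Helper5.BrPG.Ez_inf_eq_bot P h.cardP Q hQ
  have hcx := Cfsg.Agent.Helper5.BrPG.centralizer_singleton_eq P h.cardP h.cen x hxP hx1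
  -- every `w ∈ E` is trivial
  have hE1 : ∀ w ∈ Ez P Q, w = 1 := by
    intro w hw
    have h1 : x * w * x⁻¹ ∈ Ez P Q := (Subgroup.mem_normalizer_iff.mp hxL w).mp hw
    have h2 : w * x⁻¹ * w⁻¹ ∈ (P : Subgroup G) := by
      have hwN : w ∈ Nz P := hw.1
      exact (Subgroup.mem_normalizer_iff.mp hwN x⁻¹).mp (Subgroup.inv_mem _ hxP)
    have h3 : x * w * x⁻¹ * w⁻¹ ∈ Ez P Q ⊓ (P : Subgroup G) := by
      refine ⟨Subgroup.mul_mem _ h1 (Subgroup.inv_mem _ hw), ?_⟩
      have : x * w * x⁻¹ * w⁻¹ = x * (w * x⁻¹ * w⁻¹) := by group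
      rw [this]
      exact Subgroup.mul_mem _ hxP h2
    rw [hbot, Subgroup.mem_bot] at h3
    have hcomm : w * x = x * w := by
      have : x * w = (x * w * x⁻¹ * w⁻¹) * (w * x) := by group
      rw [this, h3, one_mul]
    have hwc : w ∈ Subgroup.centralizer ({x} : Set G) := by
      rw [Subgroup.mem_centralizer_iff]
      intro y hy
      rw [Set.mem_singleton_iff] at hy
      rw [hy]
      exact hcomm.symm
    rw [hcx] at hwc
    have : w ∈ Ez P Q ⊓ (P : Subgroup G) := ⟨hw, hwc⟩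
    rw [hbot, Subgroup.mem_bot] at this
    exact this
  have hEbot : Ez P Q = ⊥ := by
    rw [eq_bot_iff]
    intro w hw
    rw [Subgroup.mem_bot]
    exact hE1 w hw
  have hcard := h.two Q hQ
  rw [hEbot, Subgroup.card_bot] at hcard
  have := h.he
  omega

/-- (PG5a) `N_G(E) ∩ N = E` -/
theorem IsBr.normalizer_Ez_inf {P : Sylow p G} {e n : ℕ} (h : IsBr P e n) (Q : Sylow p G)
    (hQ : Q ≠ P) : Subgroup.normalizer ((Ez P Q : Subgroup G) : Set G) ⊓ Nz P = Ez P Q := by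
  have hle := W8_Ez_le_normalizer P Q
  have hdvd := (Cfsg.Agent.Helper59.BrPG.isCyclic_of_inf_eq_bot P h.cardP h.cen e h.cardN
    (Subgroup.normalizer ((Ez P Q : Subgroup G) : Set G) ⊓ Nz P) inf_le_right
    (IsBr.W8_inf_eq_bot h Q hQ)).2
  have hpos : 0 < e := by have := h.he; omega
  have hcard : Nat.card (Subgroup.normalizer ((Ez P Q : Subgroup G) : Set G) ⊓ Nz P : Subgroup G)
      ≤ Nat.card (Ez P Q) := by
    rw [h.two Q hQ]
    exact Nat.le_of_dvd hpos hdvd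
  exact (Subgroup.eq_of_le_of_card_ge hle hcard).symm

/-- (PG5e) if `l ∈ N_G(E) \ E` then `N(P) ∩ N(l • P) = E` -/
theorem IsBr.Ez_smul_eq {P : Sylow p G} {e n : ℕ} (h : IsBr P e n) (Q : Sylow p G) (hQ : Q ≠ P)
    (l : G) (hl : l ∈ Subgroup.normalizer ((Ez P Q : Subgroup G) : Set G)) (hlE : l ∉ Ez P Q) :
    l • P ≠ P ∧ Ez P (l • P) = Ez P Q := by
  have hne : l • P ≠ P := by
    intro hcon
    apply hlE
    rw [← IsBr.normalizer_Ez_inf h Q hQ]
    exact ⟨hl, (Cfsg.Agent.Helper5.BrPG.mem_Nz_iff _ _).mpr hcon⟩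
  refine ⟨hne, ?_⟩
  have hle : Ez P Q ≤ Ez P (l • P) := by
    intro w hw
    refine ⟨hw.1, ?_⟩
    show w ∈ Nz (l • P)
    rw [Cfsg.Agent.Helper5.BrPG.mem_Nz_smul_iff]
    have h1 : l⁻¹ * w * l ∈ Ez P Q := by
      have hl' : l⁻¹ ∈ Subgroup.normalizer ((Ez P Q : Subgroup G) : Set G) :=
        Subgroup.inv_mem _ hl
      have := (Subgroup.mem_normalizer_iff.mp hl' w).mp hw
      rwa [inv_inv] at this
    exact h1.1
  have hcard : Nat.card (Ez P (l • P)) ≤ Nat.card (Ez P Q) := by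
    rw [h.two Q hQ, h.two (l • P) hne]
  exact (Subgroup.eq_of_le_of_card_ge hle hcard).symm

/-- (PG5b) `N_G(E)` is transitive on `Fix(E)`; (PG3e) as an explicit hypothesis -/
theorem IsBr.exists_mem_normalizer_Ez_of {P : Sylow p G} {e n : ℕ} (h : IsBr P e n)
    (h3e : ∀ H H' : Subgroup G, H ≤ Nz P → H ⊓ (P : Subgroup G) = ⊥ → Nat.card H = e →
      H' ≤ Nz P → H' ⊓ (P : Subgroup G) = ⊥ → Nat.card H' = e →
      ∃ x ∈ (P : Subgroup G), H' = MulAut.conj x • H)
    (Q : Sylow p G)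
    (hQ : Q ≠ P) (Q' : Sylow p G) (hQ' : Ez P Q ≤ Nz Q') :
    ∃ l ∈ Subgroup.normalizer ((Ez P Q : Subgroup G) : Set G), l • P = Q' := by
  obtain ⟨g, rfl⟩ := MulAction.exists_smul_eq G P Q'
  have hbot := Cfsg.Agent.Helper5.BrPG.Ez_inf_eq_bot P h.cardP Q hQ
  -- `E ∩ (g • P) = 1`
  have hEQ' : ∀ w ∈ Ez P Q, w ∈ ((g • P : Sylow p G) : Subgroup G) → w = 1 := by
    intro w hw hwQ'
    by_contra hw1
    by_cases hgP : g • P = P
    · have : w ∈ Ez P Q ⊓ (P : Subgroup G) := ⟨hw, by rw [hgP] at hwQ'; exact hwQ'⟩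
      rw [hbot, Subgroup.mem_bot] at this
      exact hw1 this
    · have hbr' := Cfsg.Agent.Helper5.BrPG.IsBr.conj h (g • P)
      have := Cfsg.Agent.Helper5.BrPG.eq_of_mem_Nz (g • P) hbr'.cardP w hwQ' hw1 P hw.1
      exact hgP this.symm
  -- the complement `H' = g⁻¹ E g`
  set H' : Subgroup G := MulAut.conj g⁻¹ • Ez P Q with hH'
  have hmemH' : ∀ y : G, y ∈ H' ↔ g * y * g⁻¹ ∈ Ez P Q := by
    intro y
    rw [hH', Subgroup.mem_pointwise_smul_iff_inv_smul_mem]
    simp [MulAut.smul_def]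
  have hH'N : H' ≤ Nz P := by
    intro y hy
    rw [hmemH'] at hy
    have h1 : g * y * g⁻¹ ∈ Nz (g • P) := hQ' hy
    rw [Cfsg.Agent.Helper5.BrPG.mem_Nz_smul_iff] at h1
    have : g⁻¹ * (g * y * g⁻¹) * g = y := by group
    rwa [this] at h1
  have hH'P : H' ⊓ (P : Subgroup G) = ⊥ := by
    rw [eq_bot_iff]
    intro y hy
    rw [Subgroup.mem_bot]
    have h1 : g * y * g⁻¹ ∈ Ez P Q := (hmemH' y).mp hy.1
    have h2 : g * y * g⁻¹ ∈ ((g • P : Sylow p G) : Subgroup G) := by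
      have hdef : ((g • P : Sylow p G) : Subgroup G) = MulAut.conj g • (P : Subgroup G) :=
        Sylow.pointwise_smul_def
      rw [hdef, Subgroup.mem_pointwise_smul_iff_inv_smul_mem]
      have : (MulAut.conj g)⁻¹ • (g * y * g⁻¹) = y := by
        simp only [MulAut.smul_def, MulAut.conj_inv_apply]
        group
      rw [this]
      exact hy.2
    have h3 := hEQ' _ h1 h2
    have : y = g⁻¹ * (g * y * g⁻¹) * g := by group
    rw [this, h3]
    group
  have hH'card : Nat.card H' = e := by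
    rw [hH', Cfsg.Agent.Helper5.BrPG.card_conj_smul, h.two Q hQ]
  obtain ⟨y, hyP, hy⟩ := h3e (Ez P Q) H' inf_le_left hbot (h.two Q hQ) hH'N hH'P hH'card
  refine ⟨g * y, ?_, ?_⟩
  · -- `g y` normalizes `E`
    have hconj : MulAut.conj (g * y) • Ez P Q = Ez P Q := by
      rw [map_mul, mul_smul, ← hy, hH', ← mul_smul, ← map_mul, mul_inv_cancel, map_one, one_smul]
    rw [Subgroup.mem_normalizer_iff]
    intro w
    constructor
    · intro hw
      have : (g * y) * w * (g * y)⁻¹ ∈ MulAut.conj (g * y) • Ez P Q := by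
        rw [Subgroup.mem_pointwise_smul_iff_inv_smul_mem]
        have : (MulAut.conj (g * y))⁻¹ • ((g * y) * w * (g * y)⁻¹) = w := by
          simp only [MulAut.smul_def, MulAut.conj_inv_apply]
          group
        rw [this]
        exact hw
      rwa [hconj] at this
    · intro hw
      rw [← hconj, Subgroup.mem_pointwise_smul_iff_inv_smul_mem] at hw
      have hh : (MulAut.conj (g * y))⁻¹ • ((g * y) * w * (g * y)⁻¹) = w := by
        simp only [MulAut.smul_def, MulAut.conj_inv_apply]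
        group
      rwa [hh] at hw
  · rw [mul_smul]
    congr 1
    exact (Cfsg.Agent.Helper5.BrPG.mem_Nz_iff _ _).mp (Subgroup.le_normalizer hyP)

/-- (PG3e) all complements are conjugate under `P` (own proof; same statement as package W6) -/
theorem IsBr.W8_exists_conj_eq {P : Sylow p G} {e n : ℕ} (h : IsBr P e n) (H H' : Subgroup G)
    (hH : H ≤ Nz P) (hHP : H ⊓ (P : Subgroup G) = ⊥) (hcard : Nat.card H = e)
    (hH' : H' ≤ Nz P) (hHP' : H' ⊓ (P : Subgroup G) = ⊥) (hcard' : Nat.card H' = e) :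
    ∃ x ∈ (P : Subgroup G), H' = MulAut.conj x • H := by
  classical
  have he := h.he
  -- a generator `w` of `H`
  have hcyc : IsCyclic H :=
    (Cfsg.Agent.Helper59.BrPG.isCyclic_of_inf_eq_bot P h.cardP h.cen e h.cardN H hH hHP).1
  obtain ⟨w₀, hw₀⟩ := hcyc.exists_generator
  have hwH : (w₀ : G) ∈ H := w₀.2
  have hwN : (w₀ : G) ∈ Nz P := hH hwH
  have hw1 : (w₀ : G) ≠ 1 := by
    intro hcon
    have hw₀1 : w₀ = 1 := Subtype.ext hcon
    have hsub : ∀ k : H, k = 1 := by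
      intro k
      obtain ⟨m, hm⟩ := Subgroup.mem_zpowers_iff.mp (hw₀ k)
      rw [← hm, hw₀1, one_zpow]
    have : Nat.card H = 1 := by
      have : Subsingleton H := ⟨fun a b => (hsub a).trans (hsub b).symm⟩
      exact Nat.card_unique
    omega
  -- an element commuting with `w` in `P` is trivial
  have hfree : ∀ z ∈ (P : Subgroup G), z * (w₀ : G) = (w₀ : G) * z → z = 1 := by
    intro z hz hcomm
    by_contra hz1
    have hcz := Cfsg.Agent.Helper5.BrPG.centralizer_singleton_eq P h.cardP h.cen z hz hz1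
    have hwc : (w₀ : G) ∈ Subgroup.centralizer ({z} : Set G) := by
      rw [Subgroup.mem_centralizer_iff]
      intro y hy
      rw [Set.mem_singleton_iff] at hy
      rw [hy]
      exact hcomm
    rw [hcz] at hwc
    have : (w₀ : G) ∈ H ⊓ (P : Subgroup G) := ⟨hwH, hwc⟩
    rw [hHP, Subgroup.mem_bot] at this
    exact hw1 this
  -- `N = H' P`
  let f : H' × (P : Subgroup G) → Nz P := fun hx =>
    ⟨(hx.1 : G) * (hx.2 : G), Subgroup.mul_mem _ (hH' hx.1.2) (Subgroup.le_normalizer hx.2.2)⟩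
  have hfinj : Function.Injective f := by
    rintro ⟨a, x⟩ ⟨b, z⟩ hab
    have hab' : (a : G) * (x : G) = (b : G) * (z : G) := congrArg Subtype.val hab
    have hmem : (b : G)⁻¹ * (a : G) ∈ H' ⊓ (P : Subgroup G) := by
      refine ⟨Subgroup.mul_mem _ (Subgroup.inv_mem _ b.2) a.2, ?_⟩
      have : (b : G)⁻¹ * (a : G) = (z : G) * (x : G)⁻¹ := by
        have h1 : (a : G) = (b : G) * (z : G) * (x : G)⁻¹ := by
          rw [← hab']; group
        rw [h1]; group
      rw [this]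
      exact Subgroup.mul_mem _ z.2 (Subgroup.inv_mem _ x.2)
    rw [hHP', Subgroup.mem_bot] at hmem
    have hba : (a : G) = (b : G) := by
      have := inv_mul_eq_one.mp hmem
      exact this.symm
    have hxz : (x : G) = (z : G) := by
      rw [hba] at hab'
      exact mul_left_cancel hab'
    exact Prod.ext (Subtype.ext hba) (Subtype.ext hxz)
  have hfbij : Function.Bijective f := by
    apply Function.Injective.bijective_of_nat_card_le hfinj
    rw [Nat.card_prod, hcard', h.cardN]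
    have : Nat.card (P : Subgroup G) = p := h.cardP
    rw [this, mul_comm]
  obtain ⟨⟨w', x₁⟩, hw'⟩ := hfbij.2 ⟨(w₀ : G), hwN⟩
  have hw'eq : (w' : G) * (x₁ : G) = (w₀ : G) := congrArg Subtype.val hw'
  -- the bijection `y ↦ w⁻¹ y w y⁻¹` of `P`
  let ψ : ↥(P : Subgroup G) → ↥(P : Subgroup G) := fun y =>
    ⟨(w₀ : G)⁻¹ * (y : G) * (w₀ : G) * (y : G)⁻¹, by
      have h1 : (w₀ : G)⁻¹ * (y : G) * (w₀ : G)⁻¹⁻¹ ∈ (P : Subgroup G) :=
        (Subgroup.mem_normalizer_iff.mp (Subgroup.inv_mem _ hwN) (y : G)).mp y.2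
      rw [inv_inv] at h1
      exact Subgroup.mul_mem _ h1 (Subgroup.inv_mem _ y.2)⟩
  have hψinj : Function.Injective ψ := by
    intro y z hyz
    have hyz' : (w₀ : G)⁻¹ * (y : G) * (w₀ : G) * (y : G)⁻¹ =
        (w₀ : G)⁻¹ * (z : G) * (w₀ : G) * (z : G)⁻¹ := congrArg Subtype.val hyz
    have hcomm : ((z : G)⁻¹ * (y : G)) * (w₀ : G) = (w₀ : G) * ((z : G)⁻¹ * (y : G)) := by
      have h1 : (y : G) * (w₀ : G) * (y : G)⁻¹ = (z : G) * (w₀ : G) * (z : G)⁻¹ := by
        have : (w₀ : G) * ((w₀ : G)⁻¹ * (y : G) * (w₀ : G) * (y : G)⁻¹) =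
            (w₀ : G) * ((w₀ : G)⁻¹ * (z : G) * (w₀ : G) * (z : G)⁻¹) := by rw [hyz']
        calc (y : G) * (w₀ : G) * (y : G)⁻¹
            = (w₀ : G) * ((w₀ : G)⁻¹ * (y : G) * (w₀ : G) * (y : G)⁻¹) := by group
          _ = (w₀ : G) * ((w₀ : G)⁻¹ * (z : G) * (w₀ : G) * (z : G)⁻¹) := this
          _ = (z : G) * (w₀ : G) * (z : G)⁻¹ := by group
      calc ((z : G)⁻¹ * (y : G)) * (w₀ : G)
          = (z : G)⁻¹ * ((y : G) * (w₀ : G) * (y : G)⁻¹) * (y : G) := by group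
        _ = (z : G)⁻¹ * ((z : G) * (w₀ : G) * (z : G)⁻¹) * (y : G) := by rw [h1]
        _ = (w₀ : G) * ((z : G)⁻¹ * (y : G)) := by group
    have := hfree _ (Subgroup.mul_mem _ (Subgroup.inv_mem _ z.2) y.2) hcomm
    have hzy : (z : G) = (y : G) := inv_mul_eq_one.mp this
    exact Subtype.ext hzy.symm
  have hψsurj : Function.Surjective ψ := Finite.injective_iff_surjective.mp hψinj
  obtain ⟨y, hy⟩ := hψsurj (x₁⁻¹)
  have hy' : (w₀ : G)⁻¹ * (y : G) * (w₀ : G) * (y : G)⁻¹ = (x₁ : G)⁻¹ := congrArg Subtype.val hy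
  have hconjw : (y : G) * (w₀ : G) * (y : G)⁻¹ = (w' : G) := by
    have h1 : (w' : G) = (w₀ : G) * (x₁ : G)⁻¹ := by rw [← hw'eq]; group
    rw [h1, ← hy']
    group
  refine ⟨(y : G), y.2, ?_⟩
  have hle : MulAut.conj (y : G) • H ≤ H' := by
    intro k hk
    rw [Subgroup.mem_pointwise_smul_iff_inv_smul_mem] at hk
    have hk' : (y : G)⁻¹ * k * (y : G) ∈ H := by
      simpa [MulAut.smul_def] using hk
    obtain ⟨m, hm⟩ := Subgroup.mem_zpowers_iff.mp (hw₀ ⟨_, hk'⟩)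
    have hm' : (w₀ : G) ^ m = (y : G)⁻¹ * k * (y : G) := by
      have := congrArg Subtype.val hm
      simpa using this
    have hk2 : k = ((y : G) * (w₀ : G) * (y : G)⁻¹) ^ m := by
      rw [conj_zpow, hm']
      group
    rw [hk2, hconjw]
    exact Subgroup.zpow_mem _ w'.2 m
  have hcardle : Nat.card H' ≤ Nat.card (MulAut.conj (y : G) • H : Subgroup G) := by
    rw [Cfsg.Agent.Helper5.BrPG.card_conj_smul, hcard, hcard']
  exact (Subgroup.eq_of_le_of_card_ge hle hcardle).symm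

/-- (PG5b) `N_G(E)` is transitive on `Fix(E)` -/
theorem IsBr.exists_mem_normalizer_Ez {P : Sylow p G} {e n : ℕ} (h : IsBr P e n) (Q : Sylow p G)
    (hQ : Q ≠ P) (Q' : Sylow p G) (hQ' : Ez P Q ≤ Nz Q') :
    ∃ l ∈ Subgroup.normalizer ((Ez P Q : Subgroup G) : Set G), l • P = Q' :=
  IsBr.exists_mem_normalizer_Ez_of h (IsBr.W8_exists_conj_eq h) Q hQ Q' hQ'

end Cfsg.Agent.Helper10.BrPG
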